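import Cfsg.Agent.Spor.ON122760.V.U

set_option autoImplicit false
set_option maxRecDepth 100000000
set_option Elab.async false

namespace Cfsg.Agent.Spor.ON122760.V

theorem uok7 : Net.okb 17 un7 = true := by decide +kernel

theorem rel3_0 : U.rel 17 [15, 5, 3, 14, 7, 5, 7, 3, 14, 1, 11, 9, 5, 3, 11, 14, 11, 13, 7, 1, 14, 14, 5, 7, 14, 3] 0 8 = true := by decide +kernel

theorem rel3_8 : U.rel 17 [15, 5, 3, 14, 7, 5, 7, 3, 14, 1, 11, 9, 5, 3, 11, 14, 11, 13, 7, 1, 14, 14, 5, 7, 14, 3] 8 8 = true := by decide +kernel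

theorem rel3_16 : U.rel 17 [15, 5, 3, 14, 7, 5, 7, 3, 14, 1, 11, 9, 5, 3, 11, 14, 11, 13, 7, 1, 14, 14, 5, 7, 14, 3] 16 1 = true := by decide +kernel

theorem uok8 : Net.okb 17 un8 = true := by decide +kernel

theorem rel4_0 : U.rel 17 [17, 3, 11, 5, 14, 3, 5, 3, 7, 9, 14, 7, 3, 7, 14, 5, 1, 7, 1, 5, 3, 11, 14, 3, 14, 9, 5, 11, 13, 7, 11, 14, 5, 14, 3, 7, 14, 11, 5, 13, 9, 3] 0 5 = true := by decide +kernel

theorem rel4_5 : U.rel 17 [17, 3, 11, 5, 14, 3, 5, 3, 7, 9, 14, 7, 3, 7, 14, 5, 1, 7, 1, 5, 3, 11, 14, 3, 14, 9, 5, 11, 13, 7, 11, 14, 5, 14, 3, 7, 14, 11, 5, 13, 9, 3] 5 5 = true := by decide +kernel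

theorem rel4_10 : U.rel 17 [17, 3, 11, 5, 14, 3, 5, 3, 7, 9, 14, 7, 3, 7, 14, 5, 1, 7, 1, 5, 3, 11, 14, 3, 14, 9, 5, 11, 13, 7, 11, 14, 5, 14, 3, 7, 14, 11, 5, 13, 9, 3] 10 5 = true := by decide +kernel

theorem rel4_15 : U.rel 17 [17, 3, 11, 5, 14, 3, 5, 3, 7, 9, 14, 7, 3, 7, 14, 5, 1, 7, 1, 5, 3, 11, 14, 3, 14, 9, 5, 11, 13, 7, 11, 14, 5, 14, 3, 7, 14, 11, 5, 13, 9, 3] 15 2 = true := by decide +kernel

theorem uok9 : Net.okb 17 un9 = true := by decide +kernel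

theorem rel5 : U.rel 17 [19, 15, 3, 1, 16] 0 17 = true := by decide +kernel

theorem uok10 : Net.okb 17 un10 = true := by decide +kernel

theorem rel6_0 : U.rel 17 [21, 20, 1, 19, 1, 20, 1, 19, 1, 20, 1, 20, 1, 19, 1, 19, 1, 20, 1, 19, 1, 19, 1, 20, 1, 20, 1, 19, 1, 20, 1, 19, 1, 20] 0 6 = true := by decide +kernel

theorem rel6_6 : U.rel 17 [21, 20, 1, 19, 1, 20, 1, 19, 1, 20, 1, 20, 1, 19, 1, 19, 1, 20, 1, 19, 1, 19, 1, 20, 1, 20, 1, 19, 1, 20, 1, 19, 1, 20] 6 6 = true := by decide +kernel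

theorem rel6_12 : U.rel 17 [21, 20, 1, 19, 1, 20, 1, 19, 1, 20, 1, 20, 1, 19, 1, 19, 1, 20, 1, 19, 1, 19, 1, 20, 1, 20, 1, 19, 1, 20, 1, 19, 1, 20] 12 5 = true := by decide +kernel

theorem uok11 : Net.okb 17 un11 = true := by decide +kernel

theorem rel7_0 : U.rel 17 [23, 20, 1, 19, 1, 20, 1, 20, 1, 19, 1, 20, 1, 19, 1, 20, 1, 19, 1, 19, 1, 20, 1, 19, 1, 20, 1, 19, 1, 20, 1, 20, 1, 19, 1, 20] 0 5 = true := by decide +kernel

theorem rel7_5 : U.rel 17 [23, 20, 1, 19, 1, 20, 1, 20, 1, 19, 1, 20, 1, 19, 1, 20, 1, 19, 1, 19, 1, 20, 1, 19, 1, 20, 1, 19, 1, 20, 1, 20, 1, 19, 1, 20] 5 5 = true := by decide +kernel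

theorem rel7_10 : U.rel 17 [23, 20, 1, 19, 1, 20, 1, 20, 1, 19, 1, 20, 1, 19, 1, 20, 1, 19, 1, 19, 1, 20, 1, 19, 1, 20, 1, 19, 1, 20, 1, 20, 1, 19, 1, 20] 10 5 = true := by decide +kernel

theorem rel7_15 : U.rel 17 [23, 20, 1, 19, 1, 20, 1, 20, 1, 19, 1, 20, 1, 19, 1, 20, 1, 19, 1, 19, 1, 20, 1, 19, 1, 20, 1, 19, 1, 20, 1, 20, 1, 19, 1, 20] 15 2 = true := by decide +kernel

theorem uok12 : Net.okb 17 un12 = true := by decide +kernel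

theorem rel8 : U.rel 17 [25, 17, 14, 3, 18] 0 17 = true := by decide +kernel

theorem uok13 : Net.okb 17 un13 = true := by decide +kernel

theorem rel9 : U.rel 17 [27, 25, 25, 1, 25, 25, 1, 26, 26] 0 17 = true := by decide +kernel

theorem uok14 : Net.okb 17 un14 = true := by decide +kernel

theorem rel10 : U.rel 17 [29, 25, 1, 26, 1, 25, 1, 26, 1, 25, 1, 26] 0 17 = true := by decide +kernel

theorem uok15 : Net.okb 17 un15 = true := by decide +kernel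

theorem rel11 : U.rel 17 [31, 26, 1, 25, 1, 26, 1, 25, 1, 26, 1, 25] 0 17 = true := by decide +kernel

theorem rel12 : U.rel 17 [21, 21, 21] 0 17 = true := by decide +kernel

theorem rel13 : U.rel 17 [21, 24, 24, 21, 24, 24] 0 17 = true := by decide +kernel

theorem rel14 : U.rel 17 [23, 23, 23, 23, 23] 0 17 = true := by decide +kernel

theorem rel15 : U.rel 17 [21, 24, 22, 23, 22, 24, 22, 23, 21] 0 17 = true := by decide +kernel

theorem rel16 : U.rel 17 [1, 23, 1, 24] 0 17 = true := by decide +kernel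

theorem rel17 : U.rel 17 [1, 21, 1, 22] 0 17 = true := by decide +kernel

theorem rel18_0 : U.rel 17 [19, 1, 19, 1, 19, 1, 19, 1, 19, 1, 19, 1, 19, 1] 0 15 = true := by decide +kernel

theorem rel18_15 : U.rel 17 [19, 1, 19, 1, 19, 1, 19, 1, 19, 1, 19, 1, 19, 1] 15 2 = true := by decide +kernel

theorem rel19_0 : U.rel 17 [19, 1, 20, 1, 19, 1, 20, 1, 19, 1, 20, 1, 19, 1, 20, 1, 19, 1, 20, 1, 19, 1, 20, 1, 19, 1, 20, 1, 19, 1, 20, 1, 19, 1, 20, 1, 19, 24, 22, 23, 21, 24, 22] 0 4 = true := by decide +kernel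

theorem rel19_4 : U.rel 17 [19, 1, 20, 1, 19, 1, 20, 1, 19, 1, 20, 1, 19, 1, 20, 1, 19, 1, 20, 1, 19, 1, 20, 1, 19, 1, 20, 1, 19, 1, 20, 1, 19, 1, 20, 1, 19, 24, 22, 23, 21, 24, 22] 4 4 = true := by decide +kernel

theorem rel19_8 : U.rel 17 [19, 1, 20, 1, 19, 1, 20, 1, 19, 1, 20, 1, 19, 1, 20, 1, 19, 1, 20, 1, 19, 1, 20, 1, 19, 1, 20, 1, 19, 1, 20, 1, 19, 1, 20, 1, 19, 24, 22, 23, 21, 24, 22] 8 4 = true := by decide +kernel

theorem rel19_12 : U.rel 17 [19, 1, 20, 1, 19, 1, 20, 1, 19, 1, 20, 1, 19, 1, 20, 1, 19, 1, 20, 1, 19, 1, 20, 1, 19, 1, 20, 1, 19, 1, 20, 1, 19, 1, 20, 1, 19, 24, 22, 23, 21, 24, 22] 12 4 = true := by decide +kernel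

theorem rel19_16 : U.rel 17 [19, 1, 20, 1, 19, 1, 20, 1, 19, 1, 20, 1, 19, 1, 20, 1, 19, 1, 20, 1, 19, 1, 20, 1, 19, 1, 20, 1, 19, 1, 20, 1, 19, 1, 20, 1, 19, 24, 22, 23, 21, 24, 22] 16 1 = true := by decide +kernel

theorem rel20 : U.rel 17 [27, 29, 27, 31, 29, 27, 29, 31] 0 17 = true := by decide +kernel

theorem rel21 : U.rel 17 [27, 31, 27, 31, 27, 31] 0 17 = true := by decide +kernel

theorem rel22 : U.rel 17 [27, 27] 0 17 = true := by decide +kernel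

theorem rel23 : U.rel 17 [25, 25, 25, 25] 0 17 = true := by decide +kernel

theorem rel24_0 : U.rel 17 [25, 1, 25, 25, 1, 25, 1, 25, 1, 26, 1, 25, 1, 25, 30] 0 14 = true := by decide +kernel

theorem rel24_14 : U.rel 17 [25, 1, 25, 25, 1, 25, 1, 25, 1, 26, 1, 25, 1, 25, 30] 14 3 = true := by decide +kernel

theorem rel25_0 : U.rel 17 [25, 1, 25, 25, 1, 26, 1, 25, 1, 25, 1, 26, 32, 30, 28, 30] 0 13 = true := by decide +kernel

theorem rel25_13 : U.rel 17 [25, 1, 25, 25, 1, 26, 1, 25, 1, 25, 1, 26, 32, 30, 28, 30] 13 4 = true := by decide +kernel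

theorem sd26 : U.sends [1] 2 6 = true := by decide +kernel

end Cfsg.Agent.Spor.ON122760.V
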