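import Cfsg.Agent.Spor.Prim
import Cfsg.Agent.Spor.ON122760.Main
import Cfsg.Agent.Spor.ON122760.V.C0
import Cfsg.Agent.Spor.TT2

set_option autoImplicit false
set_option maxRecDepth 100000000
set_option Elab.async false

namespace Cfsg.Agent.Spor.ON122760.V

theorem hU : U.Ok 17 := U.ok_of 17 (show AllP (fun n => Net.okb 17 n = true) [n0, n1, n2, n3, n4, n5, n6, un7, un8, un9, un10, un11, un12, un13, un14, un15] from AllP.cons ok0 (AllP.cons ok1 (AllP.cons ok2 (AllP.cons ok3 (AllP.cons ok4 (AllP.cons ok5 (AllP.cons ok6 (AllP.cons uok7 (AllP.cons uok8 (AllP.cons uok9 (AllP.cons uok10 (AllP.cons uok11 (AllP.cons uok12 (AllP.cons uok13 (AllP.cons uok14 (AllP.cons uok15 (AllP.nil)))))))))))))))))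

theorem hfP : ∀ j < 7, U.fP [1, 3, 5, 7, 9, 11, 13] j = fP j := by
  intro j hj
  interval_cases j <;> rfl
theorem eG : gsub 7 fP = U.lsub W1 := (gsub_congr hfP).symm.trans (lsub_eq_gsub U [1, 3, 5, 7, 9, 11, 13])
theorem upz1 : ev (atm 7 fP) [0] = U.τ 1 := pz1
theorem upz3 : ev (atm 7 fP) [2] = U.τ 3 := pz2
theorem upz5 : ev (atm 7 fP) [4] = U.τ 5 := pz3
theorem upz7 : ev (atm 7 fP) [6] = U.τ 7 := pz4
theorem upz9 : ev (atm 7 fP) [8] = U.τ 9 := pz5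
theorem upz11 : ev (atm 7 fP) [10] = U.τ 11 := pz6
theorem upz13 : ev (atm 7 fP) [12] = U.τ 13 := pz7
theorem eH : wsub 7 fP BW = U.lsub W2 :=
  lsub_eq_of_all₂ (show List.Forall₂ _ [[0], [2], [4], [6], [8], [10]] [[1], [3], [5], [7], [9], [11]] from List.Forall₂.cons (upz1.trans (one_mul _).symm) (List.Forall₂.cons (upz3.trans (one_mul _).symm) (List.Forall₂.cons (upz5.trans (one_mul _).symm) (List.Forall₂.cons (upz7.trans (one_mul _).symm) (List.Forall₂.cons (upz9.trans (one_mul _).symm) (List.Forall₂.cons (upz11.trans (one_mul _).symm) (List.Forall₂.nil)))))))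
theorem vpz1 : PZ U (atm 7 fP) EXU 1 := pz1
theorem vpz2 : PZ U (atm 7 fP) EXU 2 := PZ.of_inv hiv vpz1 (by decide +kernel)
theorem vpz3 : PZ U (atm 7 fP) EXU 3 := pz2
theorem vpz4 : PZ U (atm 7 fP) EXU 4 := PZ.of_inv hiv vpz3 (by decide +kernel)
theorem vpz5 : PZ U (atm 7 fP) EXU 5 := pz3
theorem vpz6 : PZ U (atm 7 fP) EXU 6 := PZ.of_inv hiv vpz5 (by decide +kernel)
theorem vpz7 : PZ U (atm 7 fP) EXU 7 := pz4
theorem vpz8 : PZ U (atm 7 fP) EXU 8 := PZ.of_inv hiv vpz7 (by decide +kernel)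
theorem vpz9 : PZ U (atm 7 fP) EXU 9 := pz5
theorem vpz10 : PZ U (atm 7 fP) EXU 10 := PZ.of_inv hiv vpz9 (by decide +kernel)
theorem vpz11 : PZ U (atm 7 fP) EXU 11 := pz6
theorem vpz12 : PZ U (atm 7 fP) EXU 12 := PZ.of_inv hiv vpz11 (by decide +kernel)
theorem vpz13 : PZ U (atm 7 fP) EXU 13 := pz7
theorem vpz14 : PZ U (atm 7 fP) EXU 14 := PZ.of_inv hiv vpz13 (by decide +kernel)
theorem vpz15 : PZ U (atm 7 fP) EXU 15 := PZ.of_def hiv (d := [5, 3, 14, 7, 5, 7, 3, 14, 1, 11, 9, 5, 3, 11, 14, 11, 13, 7, 1, 14, 14, 5, 7, 14, 3]) (AllP.cons vpz5 (AllP.cons vpz3 (AllP.cons vpz14 (AllP.cons vpz7 (AllP.cons vpz5 (AllP.cons vpz7 (AllP.cons vpz3 (AllP.cons vpz14 (AllP.cons vpz1 (AllP.cons vpz11 (AllP.cons vpz9 (AllP.cons vpz5 (AllP.cons vpz3 (AllP.cons vpz11 (AllP.cons vpz14 (AllP.cons vpz11 (AllP.cons vpz13 (AllP.cons vpz7 (AllP.cons vpz1 (AllP.cons vpz14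 (AllP.cons vpz14 (AllP.cons vpz5 (AllP.cons vpz7 (AllP.cons vpz14 (AllP.cons vpz3 (AllP.nil)))))))))))))))))))))))))) (hU.one_of (PlaneFix.trans (PlaneFix.trans (hU.rel rel3_0) (hU.rel rel3_8)) (hU.rel rel3_16))) (by decide +kernel)
theorem vpz16 : PZ U (atm 7 fP) EXU 16 := PZ.of_inv hiv vpz15 (by decide +kernel)
theorem vpz17 : PZ U (atm 7 fP) EXU 17 := PZ.of_def hiv (d := [3, 11, 5, 14, 3, 5, 3, 7, 9, 14, 7, 3, 7, 14, 5, 1, 7, 1, 5, 3, 11, 14, 3, 14, 9, 5, 11, 13, 7, 11, 14, 5, 14, 3, 7, 14, 11, 5, 13, 9, 3]) (AllP.cons vpz3 (AllP.cons vpz11 (AllP.cons vpz5 (AllP.cons vpz14 (AllP.cons vpz3 (AllP.cons vpz5 (AllP.cons vpz3 (AllP.cons vpz7 (AllP.cons vpz9 (AllP.cons vpz14 (AllP.cons vpz7 (AllP.cons vpz3 (AllP.cons vpz7 (AllP.cons vpz14 (AllP.cons vpz5 (AllP.cons vpz1 (AllP.cons vpz7 (AllP.cons vpz1 (AllP.cons vpz5 (AllP.cons vpz3 (AllP.cons vpz11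 (AllP.cons vpz14 (AllP.cons vpz3 (AllP.cons vpz14 (AllP.cons vpz9 (AllP.cons vpz5 (AllP.cons vpz11 (AllP.cons vpz13 (AllP.cons vpz7 (AllP.cons vpz11 (AllP.cons vpz14 (AllP.cons vpz5 (AllP.cons vpz14 (AllP.cons vpz3 (AllP.cons vpz7 (AllP.cons vpz14 (AllP.cons vpz11 (AllP.cons vpz5 (AllP.cons vpz13 (AllP.cons vpz9 (AllP.cons vpz3 (AllP.nil)))))))))))))))))))))))))))))))))))))))))) (hU.one_of (PlaneFix.trans (PlaneFix.trans (PlaneFix.trans (hU.rel rel4_0) (hU.rel rel4_5)) (hU.rel rel4_10)) (hU.rel rel4_15))) (by decide +kernel)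
theorem vpz18 : PZ U (atm 7 fP) EXU 18 := PZ.of_inv hiv vpz17 (by decide +kernel)
theorem vpz19 : PZ U (atm 7 fP) EXU 19 := PZ.of_def hiv (d := [15, 3, 1, 16]) (AllP.cons vpz15 (AllP.cons vpz3 (AllP.cons vpz1 (AllP.cons vpz16 (AllP.nil))))) (hU.one rel5) (by decide +kernel)
theorem vpz20 : PZ U (atm 7 fP) EXU 20 := PZ.of_inv hiv vpz19 (by decide +kernel)
theorem vpz21 : PZ U (atm 7 fP) EXU 21 := PZ.of_def hiv (d := [20, 1, 19, 1, 20, 1, 19, 1, 20, 1, 20, 1, 19, 1, 19, 1, 20, 1, 19, 1, 19, 1, 20, 1, 20, 1, 19, 1, 20, 1, 19, 1, 20]) (AllP.cons vpz20 (AllP.cons vpz1 (AllP.cons vpz19 (AllP.cons vpz1 (AllP.cons vpz20 (AllP.cons vpz1 (AllP.cons vpz19 (AllP.cons vpz1 (AllP.cons vpz20 (AllP.cons vpz1 (AllP.cons vpz20 (AllP.cons vpz1 (AllP.cons vpz19 (AllP.cons vpz1 (AllP.cons vpz19 (AllP.cons vpz1 (AllP.cons vpz20 (AllP.cons vpz1 (AllP.cons vpz19 (AllP.cons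 vpz1 (AllP.cons vpz19 (AllP.cons vpz1 (AllP.cons vpz20 (AllP.cons vpz1 (AllP.cons vpz20 (AllP.cons vpz1 (AllP.cons vpz19 (AllP.cons vpz1 (AllP.cons vpz20 (AllP.cons vpz1 (AllP.cons vpz19 (AllP.cons vpz1 (AllP.cons vpz20 (AllP.nil)))))))))))))))))))))))))))))))))) (hU.one_of (PlaneFix.trans (PlaneFix.trans (hU.rel rel6_0) (hU.rel rel6_6)) (hU.rel rel6_12))) (by decide +kernel)
theorem vpz22 : PZ U (atm 7 fP) EXU 22 := PZ.of_inv hiv vpz21 (by decide +kernel)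
theorem vpz23 : PZ U (atm 7 fP) EXU 23 := PZ.of_def hiv (d := [20, 1, 19, 1, 20, 1, 20, 1, 19, 1, 20, 1, 19, 1, 20, 1, 19, 1, 19, 1, 20, 1, 19, 1, 20, 1, 19, 1, 20, 1, 20, 1, 19, 1, 20]) (AllP.cons vpz20 (AllP.cons vpz1 (AllP.cons vpz19 (AllP.cons vpz1 (AllP.cons vpz20 (AllP.cons vpz1 (AllP.cons vpz20 (AllP.cons vpz1 (AllP.cons vpz19 (AllP.cons vpz1 (AllP.cons vpz20 (AllP.cons vpz1 (AllP.cons vpz19 (AllP.cons vpz1 (AllP.cons vpz20 (AllP.cons vpz1 (AllP.cons vpz19 (AllP.cons vpz1 (AllP.cons vpz19 (AllP.cons vpz1 (AllP.cons vpz20 (AllP.cons vpz1 (AllP.cons vpz19 (AllP.cons vpz1 (AllP.cons vpz20 (AllP.cons vpz1 (AllP.cons vpz19 (AllP.cons vpz1 (AllP.cons vpz20 (AllP.cons vpz1 (AllP.cons vpz20 (AllP.cons vpz1 (AllP.cons vpz19 (AllP.cons vpz1 (AllP.cons vpz20 (AllP.nil)))))))))))))))))))))))))))))))))))) (hU.one_of (PlaneFix.trans (PlaneFix.trans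 (PlaneFix.trans (hU.rel rel7_0) (hU.rel rel7_5)) (hU.rel rel7_10)) (hU.rel rel7_15))) (by decide +kernel)
theorem vpz24 : PZ U (atm 7 fP) EXU 24 := PZ.of_inv hiv vpz23 (by decide +kernel)
theorem vpz25 : PZ U (atm 7 fP) EXU 25 := PZ.of_def hiv (d := [17, 14, 3, 18]) (AllP.cons vpz17 (AllP.cons vpz14 (AllP.cons vpz3 (AllP.cons vpz18 (AllP.nil))))) (hU.one rel8) (by decide +kernel)
theorem vpz26 : PZ U (atm 7 fP) EXU 26 := PZ.of_inv hiv vpz25 (by decide +kernel)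
theorem vpz27 : PZ U (atm 7 fP) EXU 27 := PZ.of_def hiv (d := [25, 25, 1, 25, 25, 1, 26, 26]) (AllP.cons vpz25 (AllP.cons vpz25 (AllP.cons vpz1 (AllP.cons vpz25 (AllP.cons vpz25 (AllP.cons vpz1 (AllP.cons vpz26 (AllP.cons vpz26 (AllP.nil))))))))) (hU.one rel9) (by decide +kernel)
theorem vpz28 : PZ U (atm 7 fP) EXU 28 := PZ.of_inv hiv vpz27 (by decide +kernel)
theorem vpz29 : PZ U (atm 7 fP) EXU 29 := PZ.of_def hiv (d := [25, 1, 26, 1, 25, 1, 26, 1, 25, 1, 26]) (AllP.cons vpz25 (AllP.cons vpz1 (AllP.cons vpz26 (AllP.cons vpz1 (AllP.cons vpz25 (AllP.cons vpz1 (AllP.cons vpz26 (AllP.cons vpz1 (AllP.cons vpz25 (AllP.cons vpz1 (AllP.cons vpz26 (AllP.nil)))))))))))) (hU.one rel10) (by decide +kernel)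
theorem vpz30 : PZ U (atm 7 fP) EXU 30 := PZ.of_inv hiv vpz29 (by decide +kernel)
theorem vpz31 : PZ U (atm 7 fP) EXU 31 := PZ.of_def hiv (d := [26, 1, 25, 1, 26, 1, 25, 1, 26, 1, 25]) (AllP.cons vpz26 (AllP.cons vpz1 (AllP.cons vpz25 (AllP.cons vpz1 (AllP.cons vpz26 (AllP.cons vpz1 (AllP.cons vpz25 (AllP.cons vpz1 (AllP.cons vpz26 (AllP.cons vpz1 (AllP.cons vpz25 (AllP.nil)))))))))))) (hU.one rel11) (by decide +kernel)
theorem vpz32 : PZ U (atm 7 fP) EXU 32 := PZ.of_inv hiv vpz31 (by decide +kernel)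
theorem hPZU : AllP (PZ U (atm 7 fP) EXU) LU :=
  show AllP (PZ U (atm 7 fP) EXU) [1, 2, 3, 4, 5, 6, 7, 8, 9, 10, 11, 12, 13, 14, 15, 16, 17, 18, 19, 20, 21, 22, 23, 24, 25, 26, 27, 28, 29, 30, 31, 32] from AllP.cons vpz1 (AllP.cons vpz2 (AllP.cons vpz3 (AllP.cons vpz4 (AllP.cons vpz5 (AllP.cons vpz6 (AllP.cons vpz7 (AllP.cons vpz8 (AllP.cons vpz9 (AllP.cons vpz10 (AllP.cons vpz11 (AllP.cons vpz12 (AllP.cons vpz13 (AllP.cons vpz14 (AllP.cons vpz15 (AllP.cons vpz16 (AllP.cons vpz17 (AllP.cons vpz18 (AllP.cons vpz19 (AllP.cons vpz20 (AllP.cons vpz21 (AllP.cons vpz22 (AllP.cons vpz23 (AllP.cons vpz24 (AllP.cons vpz25 (AllP.cons vpz26 (AllP.cons vpz27 (AllP.cons vpz28 (AllP.cons vpz29 (AllP.cons vpz30 (AllP.cons vpz31 (AllP.cons vpz32 (AllP.nil))))))))))))))))))))))))))))))))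
theorem hXJ : ∀ l ∈ XJ, ev (atm 7 fP) l = 1 :=
  relAll_sound hiv (W := [[21, 21, 21], [21, 24, 24, 21, 24, 24], [23, 23, 23, 23, 23], [21, 24, 22, 23, 22, 24, 22, 23, 21], [1, 23, 1, 24], [1, 21, 1, 22], [19, 1, 19, 1, 19, 1, 19, 1, 19, 1, 19, 1, 19, 1], [19, 1, 20, 1, 19, 1, 20, 1, 19, 1, 20, 1, 19, 1, 20, 1, 19, 1, 20, 1, 19, 1, 20, 1, 19, 1, 20, 1, 19, 1, 20, 1, 19, 1, 20, 1, 19, 24, 22, 23, 21, 24, 22]]) (rules := [⟨[21, 21, 21], [], 0, true⟩, ⟨[21, 24, 24, 21, 24, 24], [], 1, true⟩, ⟨[23, 23, 23, 23, 23], [], 2, true⟩, ⟨[21, 24, 22, 23, 22, 24, 22, 23, 21], [], 3, true⟩, ⟨[1, 23, 1, 24], [], 4, true⟩, ⟨[1, 21, 1, 22], [], 5, true⟩, ⟨[19, 1, 19, 1, 19, 1, 19, 1, 19, 1, 19, 1, 19, 1], [], 6, true⟩, ⟨[19, 1, 20, 1, 19, 1, 20, 1, 19, 1, 20, 1, 19, 1, 20, 1, 19, 1, 20, 1, 19, 1, 20, 1, 19, 1, 20, 1, 19, 1, 20, 1, 19, 1, 20, 1, 19, 24, 22, 23,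 21, 24, 22], [], 7, true⟩]) hPZU (AllP.cons (hU.one rel12) (AllP.cons (hU.one rel13) (AllP.cons (hU.one rel14) (AllP.cons (hU.one rel15) (AllP.cons (hU.one rel16) (AllP.cons (hU.one rel17) (AllP.cons (hU.one_of (PlaneFix.trans (hU.rel rel18_0) (hU.rel rel18_15))) (AllP.cons (hU.one_of (PlaneFix.trans (PlaneFix.trans (PlaneFix.trans (PlaneFix.trans (hU.rel rel19_0) (hU.rel rel19_4)) (hU.rel rel19_8)) (hU.rel rel19_12)) (hU.rel rel19_16))) (AllP.nil))))))))) (by decide +kernel)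
theorem hXM : ∀ l ∈ XM, ev (atm 7 fP) l = 1 :=
  relAll_sound hiv (W := [[27, 29, 27, 31, 29, 27, 29, 31], [27, 31, 27, 31, 27, 31], [27, 27], [25, 25, 25, 25], [25, 1, 25, 25, 1, 25, 1, 25, 1, 26, 1, 25, 1, 25, 30], [25, 1, 25, 25, 1, 26, 1, 25, 1, 25, 1, 26, 32, 30, 28, 30]]) (rules := [⟨[27, 29, 27, 31, 29, 27, 29, 31], [], 0, true⟩, ⟨[27, 31, 27, 31, 27, 31], [], 1, true⟩, ⟨[27, 27], [], 2, true⟩, ⟨[25, 25, 25, 25], [], 3, true⟩, ⟨[25, 1, 25, 25, 1, 25, 1, 25, 1, 26, 1, 25, 1, 25, 30], [], 4, true⟩, ⟨[25, 1, 25, 25, 1, 26, 1, 25, 1, 25, 1, 26, 32, 30, 28, 30], [], 5, true⟩]) hPZU (AllP.cons (hU.one rel20) (AllP.cons (hU.one rel21) (AllP.cons (hU.one rel22) (AllP.cons (hU.one rel23) (AllP.cons (hU.one_of (PlaneFix.trans (hU.rel rel24_0) (hU.rel rel24_14))) (AllP.cons (hU.one_of (PlaneFix.trans (hU.rel rel25_0) (hU.rel rel25_13))) (AllP.nil)))))))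 (by decide +kernel)
theorem a_ne : ev (atm 7 fP) [0] ≠ 1 :=
  ne_one_of_sends (ev_eq_evA hiv hPZU (by decide +kernel)) (hU.sends sd26) (by decide)

end Cfsg.Agent.Spor.ON122760.V
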